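import Mathlib
import Cfsg.Prelude.Def_Blocks

/-!
# S4937 (extensions in the principal block when `G = N C_G(P)`): common definitions

Everything is phrased with functions `G → ℂ` and subgroups of `G`; no subgroup types in the interfaces.
-/

set_option autoImplicit false

namespace Cfsg.Agent.Lib.H21.AD

variable {G : Type*} [Group G]

open Classical in
/-- sum of `f` over the `p`-regular elements of the subgroup `J` -/
noncomputable def sSum (p : ℕ) (J : Subgroup G) (f : G → ℂ) : ℂ :=
  ∑ᶠ g : G, if g ∈ J ∧ ¬ p ∣ orderOf g then f g else 0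

open Classical in
/-- the partial sum of `f` over the `p`-regular elements of the coset `y * J` -/
noncomputable def cSum (p : ℕ) (J : Subgroup G) (f : G → ℂ) (y : G) : ℂ :=
  ∑ᶠ n : G, if n ∈ J ∧ ¬ p ∣ orderOf (y * n) then f (y * n) else 0

/-- `ν` is a linear twist on `J` over `N`: multiplicative on `J`, trivial on `N` -/
def IsTwist (N J : Subgroup G) (ν : G → ℂ) : Prop :=
  (∀ a ∈ J, ∀ b ∈ J, ν (a * b) = ν a * ν b) ∧ ∀ n ∈ N, ν n = 1

/-- `ν` is a twist on `J` over `N` such that `ψ * ν` has nonzero `p`-regular sum on `J`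
(for `ψ|_J * ν` irreducible this says that it lies in the principal block of `J`) -/
def Good (p : ℕ) (ψ : G → ℂ) (N J : Subgroup G) (ν : G → ℂ) : Prop :=
  IsTwist N J ν ∧ sSum p J (fun g => ψ g * ν g) ≠ 0

end Cfsg.Agent.Lib.H21.AD
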