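import Mathlib
import Cfsg.Prelude.Def_Blocks
import Cfsg.Agent.Lib.H21.AD.Defs
import Cfsg.Agent.Lib.L0.CharOps
import Cfsg.Agent.Lib.H24.CharLinearMul
import Cfsg.Agent.Lib.H23.ExtGeneral
import Cfsg.Agent.Lib.H23.RelMGroup

/-!
# S4937, piece (IRR): `ψ|_J * ν` is irreducible
-/

set_option autoImplicit false

namespace Cfsg.Agent.Lib.H21.AD

variable {G : Type*} [Group G] [Finite G]

/-- (IRR) `ψ|_J * ν` is irreducible -/
theorem irr_twist (N J : Subgroup G) (hNJ : N ≤ J) (ψ : G → ℂ) (hψ : Cfsg.IsIrrCharacter G ψ)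
    (hψN : Cfsg.IsIrrCharacter N (fun n : N => ψ n)) (ν : G → ℂ) (hν : IsTwist N J ν) :
    Cfsg.IsIrrCharacter J (fun y : J => ψ y * ν y) := by
  have hchar : Cfsg.IsCharacter J (fun y : J => ψ y) :=
    Cfsg.Agent.Lib.L0.isCharacter_restrict J (Cfsg.Agent.Lib.L0.isCharacter_of_irr hψ)
  have h2 : Cfsg.IsIrrCharacter (N.subgroupOf J) (fun x : N.subgroupOf J => ψ ((x : J) : G)) :=
    (Cfsg.Agent.Lib.H23.isIrrCharacter_restrict_subgroupOf_iff hNJ ψ).2 hψN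
  have h3 : Cfsg.IsIrrCharacter J (fun y : J => ψ y) :=
    Cfsg.Agent.Lib.H23.isIrrCharacter_of_restrict_irr (N.subgroupOf J) hchar h2
  let f0 : J →* ℂ :=
    { toFun := fun y => ν y
      map_one' := hν.2 1 N.one_mem
      map_mul' := fun a b => hν.1 a a.2 b b.2 }
  have h4 := Cfsg.Agent.Lib.H24.isIrrCharacter_mul_hom (fun y : J => ψ y) h3 f0.toHomUnits
  have h5 : (fun g : J => ψ g * ((f0.toHomUnits g : ℂˣ) : ℂ)) = fun y : J => ψ y * ν y := by
    funext y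
    rw [MonoidHom.coe_toHomUnits]
    rfl
  rw [← h5]
  exact h4

end Cfsg.Agent.Lib.H21.AD
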