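import Mathlib
import Cfsg.Prelude.Def_Blocks
import Cfsg.Agent.Lib.H21.AD.Defs
import Cfsg.Agent.Lib.H28.ADAB
import Cfsg.Agent.Lib.H5.ADKEY

/-!
# S4937, piece (LC1): the candidate linear character as a function
-/

set_option autoImplicit false


namespace Cfsg.Agent.Lib.H21.AD

variable {G : Type*} [Group G] [Finite G] {p : ℕ} {M : Ideal Cfsg.AlgInt}

omit [Finite G] in
/-- `(N ⊔ ⟨c⟩) / N` is abelian -/
theorem sup_zpowers_comm (N : Subgroup G) [N.Normal] (c : G) :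
    ∀ a ∈ N ⊔ Subgroup.zpowers c, ∀ b ∈ N ⊔ Subgroup.zpowers c, a * b * a⁻¹ * b⁻¹ ∈ N := by
  have hmap : ∀ a ∈ N ⊔ Subgroup.zpowers c, ∃ i : ℤ,
      (QuotientGroup.mk' N) a = ((QuotientGroup.mk' N) c) ^ i := by
    intro a ha
    have h1 : (QuotientGroup.mk' N) a ∈ (N ⊔ Subgroup.zpowers c).map (QuotientGroup.mk' N) :=
      Subgroup.mem_map_of_mem _ ha
    rw [Subgroup.map_sup, MonoidHom.map_zpowers] at h1
    have h2 : N.map (QuotientGroup.mk' N) = ⊥ := by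
      rw [Subgroup.map_eq_bot_iff, QuotientGroup.ker_mk']
    rw [h2, bot_sup_eq, Subgroup.mem_zpowers_iff] at h1
    obtain ⟨i, hi⟩ := h1
    exact ⟨i, hi.symm⟩
  intro a ha b hb
  obtain ⟨i, hi⟩ := hmap a ha
  obtain ⟨j, hj⟩ := hmap b hb
  rw [← QuotientGroup.ker_mk' N, MonoidHom.mem_ker]
  rw [map_mul, map_mul, map_mul, map_inv, map_inv, hi, hj]
  have hc : Commute (((QuotientGroup.mk' N) c) ^ i) (((QuotientGroup.mk' N) c) ^ j) :=
    (Commute.refl _).zpow_zpow i j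
  rw [hc.eq, mul_assoc, mul_assoc]
  simp

omit [Finite G] in
/-- `|N ⊔ ⟨c⟩ : N|` is prime to `p` when `c` is `p`-regular -/
theorem not_dvd_relIndex_sup_zpowers (N : Subgroup G) [N.Normal] (c : G) (hc : ¬ p ∣ orderOf c) :
    ¬ p ∣ N.relIndex (N ⊔ Subgroup.zpowers c) := by
  intro h
  apply hc
  rw [sup_comm, Subgroup.relIndex_sup_right] at h
  have h2 : N.relIndex (Subgroup.zpowers c) ∣ Nat.card (Subgroup.zpowers c) :=
    Subgroup.relIndex_dvd_card _ _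
  rw [Nat.card_zpowers] at h2
  exact h.trans h2

/-- (LC1) the candidate `λ` as a function, characterised by good twists -/
theorem exists_lamFun (hM : Cfsg.IsPModular p M) (N : Subgroup G) [N.Normal] (Q : Subgroup G) (hQN : Q ≤ N)
    (hQ : ¬ p ∣ Q.relIndex N)
    (hcov : ∀ g : G, ∃ n ∈ N, ∃ c ∈ Subgroup.centralizer (Q : Set G), g = n * c)
    (ψ : G → ℂ) (hψ : Cfsg.IsIrrCharacter G ψ) (hψN : Cfsg.IsIrrCharacter N (fun n : N => ψ n))
    (hθ : sSum p N ψ ≠ 0) (e : ℕ) (_he : ∀ g : G, ¬ p ∣ orderOf (g ^ e)) :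
    ∃ L : G → ℂ, ∀ (J : Subgroup G) (ν : G → ℂ) (g : G), N ≤ J → ¬ p ∣ N.relIndex J →
      Good p ψ N J ν → g ^ e ∈ J → L g = ν (g ^ e) := by
  have hex : ∀ g : G, ∃ μ : G → ℂ, Good p ψ N (N ⊔ Subgroup.zpowers (g ^ e)) μ := by
    intro g
    exact Cfsg.Agent.Lib.H28.AD.ab p N (N ⊔ Subgroup.zpowers (g ^ e)) le_sup_left
      (fun a _ b hb => ‹N.Normal›.conj_mem b hb a) (sup_zpowers_comm N (g ^ e)) ψ hθ
  refine ⟨fun g => Classical.choose (hex g) (g ^ e), ?_⟩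
  intro J ν g hNJ hpJ hgood hge
  have h12 : N ⊔ Subgroup.zpowers (g ^ e) ≤ J :=
    sup_le hNJ ((Subgroup.zpowers_le).2 hge)
  exact Cfsg.Agent.Lib.H5.AD.key hM N Q hQN hQ hcov ψ hψ hψN (N ⊔ Subgroup.zpowers (g ^ e)) J le_sup_left h12 hpJ
    (Classical.choose (hex g)) ν (Classical.choose_spec (hex g)) hgood (g ^ e)
    (Subgroup.mem_sup_right (Subgroup.mem_zpowers _))

end Cfsg.Agent.Lib.H21.AD
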